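import Groth.Agent.Surf.K993.MilnorSum
import Groth.Agent.Biell.K856.Noether2
import Groth.Agent.Surf.K456.AmpleEx

/-!
# Noether's formula for a nodal fibration (K993)

`noether_fibration`: `12 χ(O_X) = (ω_X.ω_X) - 4 (g - 1) χ(O_C) + δ`, `δ` the number of points where `f` is not smooth.
-/

set_option autoImplicit false
universe u
open CategoryTheory CategoryTheory.Limits AlgebraicGeometry Opposite TopologicalSpace

namespace K993.NoetherFib

open Groth.Agent Groth.Agent.Grpsch.PicGrp Groth.Agent.Fga.PicMon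
open K464.Base K464.Curves K464.DegCurve K464.Cohom K464.PtCurve K464.Comp K464.FibCurve
open Groth.Agent.Vancyc.H326.ChiLam K993.VertCan K993.MilnorSum

variable (k : Type u) [Field k] [IsAlgClosed k] {X C : Scheme.{u}} [X.Over (Spec (CommRingCat.of k))]
  [C.Over (Spec (CommRingCat.of k))] [IsProper (X ↘ Spec (CommRingCat.of k))] [IsProper (C ↘ Spec (CommRingCat.of k))]
  [IsIntegral X] [IsIntegral C] [Smooth (X ↘ Spec (CommRingCat.of k))] [Smooth (C ↘ Spec (CommRingCat.of k))]
  (f : X ⟶ C) [IsDominant f] (hf : f ≫ (C ↘ Spec (CommRingCat.of k)) = X ↘ Spec (CommRingCat.of k))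
  (hX : topologicalKrullDim X = 2) (hC : topologicalKrullDim C = 1)
  {W : X.Modules} (hW : ExtPow.IsExtPow 2 (Omega.sheaf (X ↘ (Spec (CommRingCat.of k)))) W)
  (hWi : PicF.IsInvertible W) (hfn : Curv2.IsNodalFamily f) [LocallyOfFinitePresentation f]
  {q₀ : C} (hq₀ : IsClosed ({q₀} : Set C)) (hsm : Smooth (f.fiberToSpecResidueField q₀)) {g : ℕ}
  (hg : Curv2.euler k X (ClSub.quotMod (f.fiberι q₀).ker) = 1 - (g : ℤ))

include hf hX hC hW hWi hfn hq₀ hsm hg in
/-- **Noether's formula for a nodal family**. -/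
theorem noether_fibration : 12 * Curv2.euler k X (Coh.structureModule X) = dot k X (mk W hWi) (mk W hWi) -
    4 * ((g : ℤ) - 1) * Curv2.euler k C (Coh.structureModule C) + Nat.card ↥((f.smoothLocus : Set X)ᶜ) := by
  have : AlgebraicGeometry.IsNoetherian X := CurvesB.CurveRR.isNoetherian_of_proper k X
  have hr2 : SmoothOfRelativeDimension 2 (X ↘ Spec (CommRingCat.of k)) :=
    K455.RelDim.smoothOfRelativeDimension k _ 2 (K456.Adj.dim_components hX)
  have h1 := K856.Noether.noether k X (K456.AmpleEx.exists_ample k X hX) hW hWi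
  have h2 := c_formula k f hf hX hC hW hWi hfn hq₀ hsm hg
  linarith

end K993.NoetherFib
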