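import Groth.Agent.S2156
import Groth.Agent.CurvesB.NodalPoint
import Mathlib.Topology.NoetherianSpace
import Mathlib.Topology.Sober

/-!
# The singular points of a nodal family with a smooth fibre (K993)

* `finite_of_isClosed`: a closed subset of a noetherian sober space all of whose points are closed is finite.
* `isClosed_of_ne`: the points of an integral scheme of dimension at most one other than the generic point are closed.
* `isClosed_singleton`, `finite_compl`: a proper nodal family over a curve over a field, with a smooth fibre over a
  closed point, is smooth outside a finite set of closed points.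
-/

set_option autoImplicit false
universe u
open CategoryTheory CategoryTheory.Limits AlgebraicGeometry Opposite TopologicalSpace

namespace K993.SingFin

open Groth.Agent Groth.Agent.CurvesB

theorem finite_of_isClosed {X : Type*} [TopologicalSpace X] [NoetherianSpace X] [QuasiSober X] {Z : Set X}
    (hZ : IsClosed Z) (h : ∀ z ∈ Z, IsClosed ({z} : Set X)) : Z.Finite := by
  obtain ⟨S, hS, hcl, hirr, rfl⟩ := NoetherianSpace.exists_finite_set_isClosed_irreducible hZ
  refine hS.sUnion fun t ht => ?_
  obtain ⟨x, hx⟩ := QuasiSober.sober (hirr t ht) (hcl t ht)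
  have h1 : x ∈ t := hx.mem
  have h2 : t = {x} := by
    rw [← hx.def, (h x ⟨t, ht, h1⟩).closure_eq]
  rw [h2]
  exact Set.finite_singleton x

/-- On an integral scheme of dimension at most one every point other than the generic point is closed. -/
theorem isClosed_of_ne {X : Scheme.{u}} [IsIntegral X] (hX : topologicalKrullDim X ≤ 1) (x : X)
    (hx : x ≠ genericPoint X) : IsClosed ({x} : Set X) := by
  rw [← closure_subset_iff_isClosed]
  intro w hw
  have hxw : x ⤳ w := specializes_iff_mem_closure.mpr hw
  by_contra hne
  have h1 : genericPoint X ⤳ x := genericPoint_specializes x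
  have h2 : ¬ x ⤳ genericPoint X := fun h => hx (h.antisymm h1).eq
  have h3 : ¬ w ⤳ x := fun h => hne (h.antisymm hxw).eq
  let c : X → TopologicalSpace.IrreducibleCloseds X := fun z =>
    ⟨closure {z}, isIrreducible_singleton.closure, isClosed_closure⟩
  have hc : ∀ a b : X, b ⤳ a → ¬ a ⤳ b → c a < c b := by
    intro a b hab hba
    refine lt_of_le_not_ge ?_ fun h => hba ?_
    · exact hab.closure_subset
    · exact specializes_iff_closure_subset.mpr h
  let q : LTSeries (TopologicalSpace.IrreducibleCloseds X) :=
    { length := 2
      toFun := ![c w, c x, c (genericPoint X)]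
      step := by
        intro i
        fin_cases i
        · exact hc _ _ hxw h3
        · exact hc _ _ h1 h2 }
  have h4 : (2 : WithBot ℕ∞) ≤ topologicalKrullDim X := Order.LTSeries.length_le_krullDim q
  exact absurd (h4.trans hX) (by decide)

section family

variable {X C : Scheme.{u}} (f : X ⟶ C) (hf : Curv2.IsNodalFamily f) [LocallyOfFinitePresentation f]

/-- A smooth fibre of a flat family is contained in the smooth locus. -/
theorem mem_smoothLocus [Flat f] {q₀ : C} (hsm : Smooth (f.fiberToSpecResidueField q₀)) {x : X} (hx : f x = q₀) :
    x ∈ f.smoothLocus := by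
  subst hx
  have : LocallyOfFinitePresentation (f.fiberToSpecResidueField (f x)) :=
    MorphismProperty.pullback_snd _ _ inferInstance
  rw [S2156.result f x]
  refine ⟨Flat.stalkMap f x, ?_⟩
  have h := (f.fiberToSpecResidueField (f x)).smoothLocus_eq_top
  rw [h]; trivial

variable [IsProper f] [IsIntegral C] (hC : topologicalKrullDim C ≤ 1) {q₀ : C}
  (hsm : Smooth (f.fiberToSpecResidueField q₀))

include hf hC hsm in
/-- The points where `f` is not smooth are mapped to closed points. -/
theorem isClosed_apply {x : X} (hx : x ∉ f.smoothLocus) : IsClosed ({f x} : Set C) := by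
  have : Flat f := hf.1
  refine isClosed_of_ne hC _ fun h => ?_
  have h1 : IsClosed (f '' ((f.smoothLocus : Set X)ᶜ)) :=
    f.isClosedMap _ f.smoothLocus.isOpen.isClosed_compl
  have h2 : genericPoint C ∈ f '' ((f.smoothLocus : Set X)ᶜ) := ⟨x, hx, h⟩
  have h3 : f '' ((f.smoothLocus : Set X)ᶜ) = Set.univ := by
    rw [Set.eq_univ_iff_forall]
    intro y
    have h4 : y ∈ closure ({genericPoint C} : Set C) := by
      rw [(genericPoint_spec C).def]; trivial
    exact h1.closure_subset_iff.2 (Set.singleton_subset_iff.2 h2) h4
  obtain ⟨z, hz, hz'⟩ : q₀ ∈ f '' ((f.smoothLocus : Set X)ᶜ) := h3 ▸ Set.mem_univ q₀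
  exact hz (mem_smoothLocus f hsm hz')

include hf hC hsm in
/-- The points where `f` is not smooth are closed. -/
theorem isClosed_singleton {x : X} (hx : x ∉ f.smoothLocus) : IsClosed ({x} : Set X) := by
  have hcl := isClosed_apply f hf hC hsm hx
  have hN : NodalPoint.IsN f (f x) (f.asFiber x) := by
    rcases NodalPoint.pt_of_isNodalFamily f hf x with h1 | h1
    · exact absurd (NodalPoint.mem_smoothLocus_of_sm f x h1) hx
    · exact h1
  have h1 : IsClosed ({f.asFiber x} : Set (f.fiber (f x))) := hN.1
  have : IsClosedImmersion (C.fromSpecResidueField (f x)) := isClosed_singleton_iff_isClosedImmersion.mp hcl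
  have : IsClosedImmersion (f.fiberι (f x)) :=
    inferInstanceAs (IsClosedImmersion (pullback.fst f (C.fromSpecResidueField (f x))))
  have h2 := (f.fiberι (f x)).isClosedEmbedding.isClosedMap _ h1
  rwa [Set.image_singleton, f.fiberι_asFiber x] at h2

include hf hC hsm in
theorem finite_compl [NoetherianSpace X] : {x : X | x ∉ f.smoothLocus}.Finite :=
  finite_of_isClosed f.smoothLocus.isOpen.isClosed_compl fun _ hx => isClosed_singleton f hf hC hsm hx

end family

end K993.SingFin
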