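import Groth.Agent.Surf.K993.Vert
import Groth.Agent.Picfga.CurveRelDim
import Groth.Agent.Vancyc.H878.OmegaRank
import Groth.Agent.Surf.K456.FibDiv
import Groth.Agent.Surf.K457.Form

/-!
# The relative canonical class on vertical curves (K993)

`f : X ⟶ B` a fibration of a smooth proper surface over a smooth proper curve, `O_B = f_* O_X`, with a fibre of Euler
characteristic `1 - g`, `g ≥ 2`.

* `ker_fiberι`: the ideal of the scheme theoretic fibre is `(pt hb).comap f`.
* `degOn_fibre_canonical`: `deg_F(ω_X) = 2 g - 2` for every fibre over a closed point.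
* `degOn_vert`: for a vertical integral curve `D` which is not a `(-1)`-curve, `deg_D(ω_X) ≥ 0`, and if it is zero
  then `χ(O_D) = 1` and `(D.D) = -2`.
-/

set_option autoImplicit false
universe u
open CategoryTheory CategoryTheory.Limits AlgebraicGeometry Opposite TopologicalSpace

namespace K993.VertCan

open Groth.Agent Groth.Agent.Grpsch.PicGrp Groth.Agent.Fga.PicMon
open K464.Base K464.Curves K464.DegCurve K464.Cohom K464.PtCurve K464.Comp K464.FibCurve

theorem ker_fiberι {X B : Scheme.{u}} (f : X ⟶ B) {b : B} (hb : IsClosed ({b} : Set B)) :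
    (f.fiberι b).ker = (pt hb).comap f := by
  have : IsClosedImmersion (B.fromSpecResidueField b) := isClosed_singleton_iff_isClosedImmersion.mp hb
  rw [K456.FibDiv.ker_fiberι]
  congr 1
  rw [Models.H50.PointInter.ker_eq_vanishingIdeal]
  congr 1
  apply Closeds.ext
  rw [Closeds.coe_closure, Scheme.range_fromSpecResidueField, hb.closure_eq]
  rfl

/-- The class of a tensor inverse of an ideal. -/
theorem mk_inverse_idealMod {X : Scheme.{u}} {D : X.IdealSheafData} (hD : BlowUp.IsEffCartierIdeal D)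
    {L : X.Modules} (hL : ClSub.IsInverseOf L (ClSub.idealMod D)) (hLi : PicF.IsInvertible L) :
    mk L hLi = (ic D hD)⁻¹ := K457.Form.mk_eq_inv' hLi (Dix.IdealModCartier.isInvertible_idealMod hD) hL

variable (k : Type u) [Field k] [IsAlgClosed k] {X B : Scheme.{u}} [X.Over (Spec (CommRingCat.of k))]
  [B.Over (Spec (CommRingCat.of k))] [IsProper (X ↘ Spec (CommRingCat.of k))] [IsProper (B ↘ Spec (CommRingCat.of k))]
  [IsIntegral X] [IsIntegral B] [Smooth (X ↘ Spec (CommRingCat.of k))] (f : X ⟶ B) [IsDominant f]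
  (hf : f ≫ (B ↘ Spec (CommRingCat.of k)) = X ↘ Spec (CommRingCat.of k))
  (hX : topologicalKrullDim X = 2) (hB : topologicalKrullDim B = 1)
  (hreg : ∀ b : B, IsRegularLocalRing (B.presheaf.stalk b))

section

variable {W : X.Modules} (hW : ExtPow.IsExtPow 2 (Omega.sheaf (X ↘ (Spec (CommRingCat.of k)))) W)
  (hWi : PicF.IsInvertible W)

include hf hX hB hreg hW in
/-- `deg_F(ω_X) = -2 χ(O_F)`. -/
theorem degOn_fibre_eq {b : B} (hb : IsClosed ({b} : Set B)) :
    degOn k X ((pt hb).comap f) (mk W hWi) = -2 * Curv2.euler k X (ClSub.quotMod ((pt hb).comap f)) := by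
  have hEp : BlowUp.IsEffCartierIdeal (pt hb) := isEff_pt k (B ↘ Spec (CommRingCat.of k)) hB hreg hb
  have hEF := isEff_fibre f hB hb hEp
  have h1 := K456.Adj.adjunction k hX hW hWi hEF
  rw [← pull_ic f hEp hEF, dot_pull_pull k f hf hX.le hB hreg, pull_ic f hEp hEF, dot_ic_eq] at h1
  linarith

include hf hX hB hreg hW in
/-- `deg_F(ω_X)` does not depend on the fibre. -/
theorem degOn_fibre_canonical {b₀ : B} (hb₀ : IsClosed ({b₀} : Set B)) {g : ℕ}
    (hg : Curv2.euler k X (ClSub.quotMod (f.fiberι b₀).ker) = 1 - (g : ℤ)) {b : B} (hb : IsClosed ({b} : Set B)) :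
    degOn k X ((pt hb).comap f) (mk W hWi) = 2 * g - 2 := by
  have := isProper k f hf
  have := K456.FlatCurve.flat_of_dominant f hreg hB.le
  rw [degOn_fibre k f hf hb hWi (d := 2) hX.le, ← degOn_fibre k f hf hb₀ hWi (d := 2) hX.le,
    degOn_fibre_eq k f hf hX hB hreg hW hWi hb₀, ← ker_fiberι f hb₀, hg]
  ring

include hf hX hB hreg hW hWi in
/-- The degree of the canonical module on the fibres. -/
theorem fd_canonical {b₀ : B} (hb₀ : IsClosed ({b₀} : Set B)) {g : ℕ}
    (hg : Curv2.euler k X (ClSub.quotMod (f.fiberι b₀).ker) = 1 - (g : ℤ)) : fd f W = 2 * g - 2 := by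
  have := isProper k f hf
  have := K456.FlatCurve.flat_of_dominant f hreg hB.le
  rw [← degOn_fibre k f hf hb₀ hWi (d := 2) hX.le, degOn_fibre_canonical k f hf hX hB hreg hW hWi hb₀ hg hb₀]

include hf hX hB hreg hW in
/-- **The canonical class on vertical curves of a relatively minimal fibration of genus at least two.** -/
theorem degOn_vert (hconn : IsIso (ClSub.unitToPush f)) {b₀ : B} (hb₀ : IsClosed ({b₀} : Set B)) {g : ℕ} (hg2 : 2 ≤ g)
    (hg : Curv2.euler k X (ClSub.quotMod (f.fiberι b₀).ker) = 1 - (g : ℤ)) {D : X.IdealSheafData} (hD : IsCurve D)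
    (hDe : BlowUp.IsEffCartierIdeal D)
    (hmin : Curv2.euler k X (ClSub.quotMod D) = 1 → dot k X (ic D hDe) (ic D hDe) ≠ -1)
    {b : B} (hb : IsClosed ({b} : Set B)) (hv : ∀ x : X, x ∈ D.support → f x = b) :
    0 ≤ degOn k X D (mk W hWi) ∧ (degOn k X D (mk W hWi) = 0 →
      Curv2.euler k X (ClSub.quotMod D) = 1 ∧ dot k X (ic D hDe) (ic D hDe) = -2) := by
  have h1 := K456.Adj.adjunction k hX hW hWi hDe
  have h1' := K456.Adj.adjunction_curve k hX hW hWi hD hDe
  have h2 := Vert.dot_self_le k f hf hX hB hreg hD hDe hb hv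
  have h3 : dot k X (ic D hDe) (mk W hWi) = - degOn k X D (mk W hWi) := dot_ic_eq k X hDe _
  -- case D² = 0
  have h4 : dot k X (ic D hDe) (ic D hDe) = 0 → 0 < degOn k X D (mk W hWi) := by
    intro h0
    obtain ⟨n, hn, hFn⟩ := Vert.fibre_eq_pow k f hf hX hB hreg hconn hD hDe hb hv h0
    have hEF : BlowUp.IsEffCartierIdeal ((pt hb).comap f) :=
      isEff_fibre f hB hb (isEff_pt k (B ↘ Spec (CommRingCat.of k)) hB hreg hb)
    have h5 := degOn_fibre_canonical k f hf hX hB hreg hW hWi hb₀ hg hb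
    have h6 := dot_ic_eq k X hEF (mk W hWi)
    rw [ic_congr hEF (Divis.EffCartier.isEff_pow hDe n) hFn, ic_pow hDe n, dot_pow_left k X hX.le, h3, h5] at h6
    have h7 : (2 : ℤ) ≤ g := by exact_mod_cast hg2
    have h8 : 0 < (n : ℤ) * degOn k X D (mk W hWi) := by linarith
    exact pos_of_mul_pos_right h8 (by exact_mod_cast hn.le)
  set h := (@Module.finrank k (Coh.HH D.subscheme (Coh.structureModule D.subscheme) 1) _ _
        (letI := overC k X D; inferInstance)) with hh
  have h9 : Curv2.euler k X (ClSub.quotMod D) = 1 - h := by linarith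
  by_cases h0 : dot k X (ic D hDe) (ic D hDe) = 0
  · have h5 := h4 h0
    exact ⟨h5.le, fun h6 => absurd h6 h5.ne'⟩
  · rcases Nat.eq_zero_or_pos h with h10 | h10
    · rw [h10] at h9 h1'
      have h11 : Curv2.euler k X (ClSub.quotMod D) = 1 := by rw [h9]; simp
      have h12 := hmin h11
      push_cast at h1'
      refine ⟨?_, fun h6 => ⟨h11, ?_⟩⟩
      · rw [h3] at h1'
        omega
      · rw [h3, h6] at h1'
        omega
    · have h11 : (1 : ℤ) ≤ h := by exact_mod_cast h10
      rw [h3] at h1'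
      have h12 : dot k X (ic D hDe) (ic D hDe) < 0 := lt_of_le_of_ne h2 h0
      have h13 : 0 < degOn k X D (mk W hWi) := by linarith
      exact ⟨h13.le, fun h6 => absurd h6 h13.ne'⟩

end

section rel

omit [IsAlgClosed k] in
/-- The module of differentials of a smooth curve is invertible. -/
theorem isInvertible_omega (C : Scheme.{u}) [C.Over (Spec (CommRingCat.of k))]
    [IsProper (C ↘ Spec (CommRingCat.of k))] [Smooth (C ↘ Spec (CommRingCat.of k))] [IsIntegral C]
    (hdimC : topologicalKrullDim C = 1) : PicF.IsInvertible (Omega.sheaf (C ↘ Spec (CommRingCat.of k))) := by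
  have h1 : SmoothOfRelativeDimension 1 (C ↘ Spec (CommRingCat.of k)) :=
    Picfga.CurveRelDim.smoothOfRelativeDimension_of_topologicalKrullDim_eq k C _ 1 hdimC
  rw [← Ega2.QCohLocal.isFinLocFreeOfRank_one_iff]
  exact Vancyc.H878.OmegaRank.isFinLocFreeOfRank_omega 1 _

variable [Smooth (B ↘ Spec (CommRingCat.of k))] {M : X.Modules}
  (hM : ClSub.IsInverseOf M ((Scheme.Modules.pullback f).obj (Omega.sheaf (B ↘ (Spec (CommRingCat.of k))))))

include hB hM in
/-- The class of the tensor inverse of `f^* Ω_B`. -/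
theorem mk_inverse_omega (hMi : PicF.IsInvertible M) :
    mk M hMi = pull f (mk (Omega.sheaf (B ↘ (Spec (CommRingCat.of k)))) (isInvertible_omega k B hB))⁻¹ := by
  rw [map_inv]
  exact K457.Form.mk_eq_inv' hMi
    (Fdesc.LocGen.isInvertible_pullback f (isInvertible_omega k B hB)) hM

end rel

include hf hX hB in
/-- The final form: `(ω_{X/B}.O_X(D)) ≥ 0` for a vertical integral curve `D`, with equality only for `(-2)`-curves. -/
theorem main [Smooth (B ↘ Spec (CommRingCat.of k))] (hconn : IsIso (ClSub.unitToPush f)) {q₀ : B}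
    (hq₀ : IsClosed ({q₀} : Set B)) {g : ℕ} (hg2 : 2 ≤ g)
    (hg : Curv2.euler k X (ClSub.quotMod (f.fiberι q₀).ker) = 1 - (g : ℤ))
    (hmin : ∀ E : X.IdealSheafData, IsIntegral E.subscheme → topologicalKrullDim (E.support : Set X) = 1 →
      (∃ c : B, ∀ x : X, x ∈ E.support → f.base x = c) → Curv2.euler k X (ClSub.quotMod E) = 1 →
      FGA.intNum k X 2 ![ClSub.idealMod E, ClSub.idealMod E] (Coh.structureModule X) ≠ -1)
    {WX : X.Modules} (hWX : ExtPow.IsExtPow 2 (Omega.sheaf (X ↘ (Spec (CommRingCat.of k)))) WX) {M : X.Modules}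
    (hM : ClSub.IsInverseOf M ((Scheme.Modules.pullback f).obj (Omega.sheaf (B ↘ (Spec (CommRingCat.of k))))))
    {D : X.IdealSheafData} (hD : IsIntegral D.subscheme) (hD1 : topologicalKrullDim (D.support : Set X) = 1)
    (hDv : ∃ c : B, ∀ x : X, x ∈ D.support → f.base x = c)
    {LD : X.Modules} (hLD : ClSub.IsInverseOf LD (ClSub.idealMod D)) :
    0 ≤ FGA.intNum k X 2 ![(CohB1.tensorMod WX M), LD] (Coh.structureModule X) ∧
      (FGA.intNum k X 2 ![(CohB1.tensorMod WX M), LD] (Coh.structureModule X) = 0 →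
        Curv2.euler k X (ClSub.quotMod D) = 1 ∧ FGA.intNum k X 2 ![LD, LD] (Coh.structureModule X) = -2) := by
  have hreg : ∀ b : B, IsRegularLocalRing (B.presheaf.stalk b) := fun b =>
    K456.FibDiv.isRegular_of_smooth (B ↘ Spec (CommRingCat.of k)) b
  have hWi : PicF.IsInvertible WX := K456.Adj.isInvertible_canonical k hX hWX
  have hMi : PicF.IsInvertible M := K457.Form.isInvertible_of_inverse hM
  have hLDi : PicF.IsInvertible LD := K457.Form.isInvertible_of_inverse hLD
  have hDc : IsCurve D := ⟨hD, hD1⟩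
  have hDe : BlowUp.IsEffCartierIdeal D := isEff_of_smooth k hX hDc
  obtain ⟨c, hc⟩ := hDv
  have hcl : IsClosed ({c} : Set B) := by
    have := isProper k f hf
    have h1 : f '' (D.support : Set X) = {c} := by
      ext y
      constructor
      · rintro ⟨x, hx, rfl⟩; exact hc x hx
      · rintro rfl
        exact ⟨gp hDc, gp_mem hDc, hc _ (gp_mem hDc)⟩
    rw [← h1]
    exact f.isClosedMap _ D.support.isClosed
  have hN : PicF.IsInvertible (CohB1.tensorMod WX M) := Fdesc.LocGen.isInvertible_tensorMod hWi hMi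
  rw [intNum_eq_dot k X hX.le hN hLDi, intNum_eq_dot k X hX.le hLDi hLDi]
  have h1 : mk (CohB1.tensorMod WX M) hN = mk WX hWi * mk M hMi := (mk_mul_mk hWi hMi).symm
  rw [h1, mk_inverse_idealMod hDe hLD hLDi, dot_inv_inv k X hX.le, dot_inv_right k X hX.le, dot_mul_left k X hX.le,
    mk_inverse_omega k f hB hM hMi, dot_comm k X (mk WX hWi), dot_comm k X (pull f _), dot_ic_eq, dot_ic_eq,
    Vert.degOn_pull_vert k f hf hDc hcl hc, neg_zero, add_zero, neg_neg]
  refine degOn_vert k f hf hX hB hreg hWX hWi hconn hq₀ hg2 hg hDc hDe ?_ hcl hc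
  intro h2 h3
  have h4 := hmin D hD hD1 ⟨c, hc⟩ h2
  rw [intNum_eq_dot k X hX.le (Dix.IdealModCartier.isInvertible_idealMod hDe)
    (Dix.IdealModCartier.isInvertible_idealMod hDe)] at h4
  exact h4 h3

end K993.VertCan
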