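import Groth.Agent.Surf.K464.FibCurve
import Groth.Agent.Surf.K464.DivLat
import Groth.Agent.Surf.K456.Adj
import Groth.Agent.PosLin.K931.UnitInv
import Groth.Agent.S2431

/-!
# Vertical curves of a fibration of a surface over a curve (K993)

`f : X ⟶ B` dominant, `X` a proper smooth integral surface and `B` a proper regular curve over an algebraically closed
field. `degOn_pull_vert`: pulled back classes have degree zero on vertical curves; `self_le`: `(D.D) ≤ 0` for a
vertical curve; `fibre_eq_pow`: if `O_B = f_* O_X` and `(D.D) = 0`, the fibre is a multiple of `D` (Zariski's lemma).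
-/

set_option autoImplicit false
universe u
open CategoryTheory CategoryTheory.Limits AlgebraicGeometry Opposite TopologicalSpace

namespace K993.Vert

open Groth.Agent Groth.Agent.Grpsch.PicGrp Groth.Agent.Fga.PicMon
open K464.Base K464.Curves K464.DegCurve K464.Cohom K464.PtCurve K464.DivLat K464.Comp K464.FibCurve

variable (k : Type u) [Field k] [IsAlgClosed k] {X B : Scheme.{u}} [X.Over (Spec (CommRingCat.of k))]
  [B.Over (Spec (CommRingCat.of k))] [IsProper (X ↘ Spec (CommRingCat.of k))] [IsProper (B ↘ Spec (CommRingCat.of k))]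
  [IsIntegral X] [IsIntegral B] (f : X ⟶ B)
  (hf : f ≫ (B ↘ Spec (CommRingCat.of k)) = X ↘ Spec (CommRingCat.of k))

omit [IsIntegral X] [IsIntegral B] in
/-- A vertical curve is contained in the fibre. -/
theorem fibre_le {D : X.IdealSheafData} (hD : IsCurve D) {b : B} (hb : IsClosed ({b} : Set B))
    (hv : ∀ x : X, x ∈ D.support → f x = b) : (pt hb).comap f ≤ D := by
  rw [le_iff_gp_mem hD, Scheme.IdealSheafData.support_comap]
  change f (gp hD) ∈ (pt hb).support
  rw [mem_support_pt]
  exact hv _ (gp_mem hD)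

include hf in
/-- A class pulled back from the base has degree zero on every subscheme of a closed fibre. -/
theorem degOn_pull_of_le {D : X.IdealSheafData} {b : B} (hb : IsClosed ({b} : Set B))
    (h : (pt hb).comap f ≤ D) (a : Pic B) : degOn k X D (pull f a) = 0 := by
  obtain ⟨τ, hτ, H⟩ := exists_isPullback_fibre k f hf hb
  have h1 : D.subschemeι = Scheme.IdealSheafData.inclusion h ≫ ((pt hb).comap f).subschemeι :=
    (Scheme.IdealSheafData.inclusion_subschemeι h).symm
  have h2 := H.w
  rw [degOn_eq_degC, ← pull_comp, h1, Category.assoc, h2, ← Category.assoc, pull_comp,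
    pic_spec_local k (pull τ a), map_one, degC_one]

include hf in
theorem degOn_pull_vert {D : X.IdealSheafData} (hD : IsCurve D) {b : B} (hb : IsClosed ({b} : Set B))
    (hv : ∀ x : X, x ∈ D.support → f x = b) (a : Pic B) : degOn k X D (pull f a) = 0 :=
  degOn_pull_of_le k f hf hb (fibre_le f hD hb hv) a


/-! ### The fibre as a cycle -/

variable {f} in
omit [IsIntegral X] [IsIntegral B] in
theorem mem_support_fibre {b : B} (hb : IsClosed ({b} : Set B)) (x : X) :
    x ∈ ((pt hb).comap f).support ↔ f x = b := by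
  rw [Scheme.IdealSheafData.support_comap]
  exact mem_support_pt hb (f x)

theorem isConnected_fibre [IsProper f] [IsLocallyNoetherian B] (hconn : IsIso (ClSub.unitToPush f)) (b : B) :
    _root_.IsConnected (f ⁻¹' {b}) := by
  have h1 : ∀ U : B.Opens, IsIso (f.app U) := fun U => by
    rw [ConcreteCategory.isIso_iff_bijective]
    exact K931.UnitInv.bijective_app_of_isIso f hconn U
  have h2 := (S2431.result f h1).1 b
  rw [← Scheme.Hom.range_fiberι]
  exact isConnected_range (f.fiberι b).continuous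

section zariski

variable [Smooth (X ↘ Spec (CommRingCat.of k))] (hX : topologicalKrullDim X = 2) (hB : topologicalKrullDim B = 1)
  (hreg : ∀ b : B, IsRegularLocalRing (B.presheaf.stalk b)) [IsDominant f]

include hf hX hB hreg in
/-- A vertical curve as a component of its fibre. -/
theorem exists_cycle {D : X.IdealSheafData} (hD : IsCurve D) {b : B} (hb : IsClosed ({b} : Set B))
    (hv : ∀ x : X, x ∈ D.support → f x = b) :
    ∃ (r : ℕ) (C : Fin r → X.IdealSheafData) (n : Fin r → ℕ) (_ : ∀ i, IsCurve (C i)) (_ : Function.Injective C)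
      (_ : ∀ i, 0 < n i) (hE : ∀ i, BlowUp.IsEffCartierIdeal (C i)) (j : Fin r), (pt hb).comap f = cyc C n ∧ C j = D ∧
        (∀ i, (pt hb).comap f ≤ C i) ∧ (∀ l, ∑ i, (n i : ℤ) * gram k hE i l = 0) := by
  have : IsNoetherian X := CurvesB.CurveRR.isNoetherian_of_proper k X
  have hEp : BlowUp.IsEffCartierIdeal (pt hb) := isEff_pt k (B ↘ Spec (CommRingCat.of k)) hB hreg hb
  have hEF := isEff_fibre f hB hb hEp
  obtain ⟨r, C, n, hC, hinj, hn, hF⟩ := exists_eq_cyc k (X ↘ Spec (CommRingCat.of k)) hX
    (fun x => S1535.result k X x) ((pt hb).comap f) hEF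
  have hE : ∀ i, BlowUp.IsEffCartierIdeal (C i) := fun i => isEff_of_smooth k hX (hC i)
  have hle : ∀ i, (pt hb).comap f ≤ C i := fun i => by
    classical
    rw [hF]
    refine (cyc_antitone (C := C) (m := Pi.single i 1) (n := n) ?_).trans_eq (cyc_single C i)
    intro j
    by_cases hj : j = i
    · subst hj; rw [Pi.single_eq_same]; exact hn j
    · simp [hj]
  have hj : ∃ j, C j = D := by
    have h1 : gp hD ∈ (cyc C n).support := by
      rw [← hF, mem_support_fibre hb]
      exact hv _ (gp_mem hD)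
    obtain ⟨i, hi⟩ := Set.mem_iUnion.1 (support_cyc_subset (C := C) n h1)
    exact ⟨i, (eq_of_gp_mem hD (hC i) hi).symm⟩
  obtain ⟨j, hj⟩ := hj
  refine ⟨r, C, n, hC, hinj, hn, hE, j, hF, hj, hle, fun l => ?_⟩
  have h2 := degOn_cyc k hE hX.le n l
  have h3 : degOn k X (C l) (ic (cyc C n) (isEff_cyc hE n)) = 0 := by
    rw [← degOn_pull_of_le k f hf hb (hle l) (ic (pt hb) hEp), pull_ic f hEp hEF,
      ic_congr (isEff_cyc hE n) hEF hF.symm]
  rw [h3] at h2
  linarith

include hf hX hB hreg in
/-- `(D.D) ≤ 0` for a vertical curve. -/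
theorem dot_self_le {D : X.IdealSheafData} (hD : IsCurve D) (hDe : BlowUp.IsEffCartierIdeal D) {b : B}
    (hb : IsClosed ({b} : Set B)) (hv : ∀ x : X, x ∈ D.support → f x = b) : dot k X (ic D hDe) (ic D hDe) ≤ 0 := by
  obtain ⟨r, C, n, hC, hinj, hn, hE, j, hF, rfl, hle, hz⟩ := exists_cycle k f hf hX hB hreg hD hb hv
  have h1 := hz j
  rw [← Finset.add_sum_erase _ _ (Finset.mem_univ j)] at h1
  have h2 : 0 ≤ ∑ i ∈ Finset.univ.erase j, (n i : ℤ) * gram k hE i j := Finset.sum_nonneg fun i hi =>
    mul_nonneg (Int.natCast_nonneg _) (gram_nonneg k hE hC hinj i j (Finset.ne_of_mem_erase hi))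
  have h3 : (n j : ℤ) * gram k hE j j ≤ 0 := by linarith
  have h4 : (0 : ℤ) < n j := by exact_mod_cast hn j
  exact nonpos_of_mul_nonpos_right h3 h4

include hf hX hB hreg in
/-- Zariski's lemma for one curve: if the fibre is connected and `(D.D) = 0` then the fibre is a multiple of `D`. -/
theorem fibre_eq_pow (hconn : IsIso (ClSub.unitToPush f)) {D : X.IdealSheafData} (hD : IsCurve D)
    (hDe : BlowUp.IsEffCartierIdeal D) {b : B} (hb : IsClosed ({b} : Set B)) (hv : ∀ x : X, x ∈ D.support → f x = b)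
    (h0 : dot k X (ic D hDe) (ic D hDe) = 0) : ∃ n : ℕ, 0 < n ∧ (pt hb).comap f = D ^ n := by
  have := isProper k f hf
  have : AlgebraicGeometry.IsNoetherian B := CurvesB.CurveRR.isNoetherian_of_proper k B
  obtain ⟨r, C, n, hC, hinj, hn, hE, j, hF, rfl, hle, hz⟩ := exists_cycle k f hf hX hB hreg hD hb hv
  have h1 := hz j
  have h0' : gram k hE j j = 0 := h0
  rw [← Finset.add_sum_erase _ _ (Finset.mem_univ j), h0', mul_zero, zero_add] at h1
  have h2 : ∀ i ∈ Finset.univ.erase j, 0 ≤ (n i : ℤ) * gram k hE i j := fun i hi =>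
    mul_nonneg (Int.natCast_nonneg _) (gram_nonneg k hE hC hinj i j (Finset.ne_of_mem_erase hi))
  rw [Finset.sum_eq_zero_iff_of_nonneg h2] at h1
  have h3 : ∀ i, i ≠ j → Disjoint ((C i).support : Set X) (C j).support := fun i hi => by
    rw [← gram_eq_zero_iff k hE hC hinj i j hi]
    have := h1 i (Finset.mem_erase.2 ⟨hi, Finset.mem_univ _⟩)
    have h4 : (n i : ℤ) ≠ 0 := by exact_mod_cast (hn i).ne'
    exact (mul_eq_zero.1 this).resolve_left h4
  have hs : ∀ i, ((C i).support : Set X) ⊆ f ⁻¹' {b} := fun i x hx => by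
    exact (mem_support_fibre hb x).1 (Scheme.IdealSheafData.support_antitone (hle i) hx)
  have hall : ∀ i, i = j := by
    by_contra hne
    push Not at hne
    obtain ⟨i, hi⟩ := hne
    have hcon := (isConnected_fibre f hconn b).isPreconnected
    rw [isPreconnected_closed_iff] at hcon
    have hcon' := hcon ((C j).support : Set X) (⋃ l ∈ {l : Fin r | l ≠ j}, ((C l).support : Set X))
      (C j).support.isClosed ((Set.toFinite _).isClosed_biUnion fun l _ => (C l).support.isClosed) ?_ ?_ ?_
    · obtain ⟨x, hx, hx1, hx2⟩ := hcon'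
      obtain ⟨l, hl, hl'⟩ := Set.mem_iUnion₂.1 hx2
      exact Set.disjoint_left.1 (h3 l hl) hl' hx1
    · intro x hx
      have h4 : x ∈ (cyc C n).support := by
        rw [← hF, mem_support_fibre hb]; exact hx
      obtain ⟨l, hl⟩ := Set.mem_iUnion.1 (support_cyc_subset (C := C) n h4)
      by_cases hlj : l = j
      · subst hlj; exact Or.inl hl
      · exact Or.inr (Set.mem_iUnion₂.2 ⟨l, hlj, hl⟩)
    · exact ⟨gp (hC j), hs j (gp_mem (hC j)), gp_mem (hC j)⟩
    · exact ⟨gp (hC i), hs i (gp_mem (hC i)), Set.mem_iUnion₂.2 ⟨i, hi, gp_mem (hC i)⟩⟩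
  refine ⟨n j, hn j, ?_⟩
  rw [hF]
  unfold cyc
  rw [Finset.prod_eq_single j]
  · intro i _ hi; exact absurd (hall i) hi
  · intro h; exact absurd (Finset.mem_univ j) h

end zariski

end K993.Vert
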