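import Groth.Agent.Surf.K455.MinRes
import Groth.Agent.Surf.K455.MinCount
import Groth.Agent.Surf.K993.Vert
import Groth.Agent.Surf.K993.VertCan
import Groth.Agent.PicF.K247.SmoothGI

/-!
# Relatively minimal models have no vertical `(-1)`-curves (K993)

`false_of_exc`: `p : M ⟶ B` a flat family of a smooth proper surface over a smooth proper curve, with smooth connected
fibres with `χ(O_F) ≠ 1` over the points of `U`, without exceptional curves of the first kind outside `p⁻¹(U)`. Then no
vertical integral curve `E` with `χ(O_E) = 1` has `(E.E) = -1`.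
-/

set_option autoImplicit false
universe u
open CategoryTheory CategoryTheory.Limits AlgebraicGeometry TopologicalSpace IsLocalRing Surf Groth.Agent

namespace K993.HMin

open Groth.Agent.Grpsch.PicGrp Groth.Agent.Fga.PicMon
open K464.Base K464.Curves K464.DegCurve K464.Cohom K464.PtCurve K464.Comp K464.FibCurve

theorem isDominant_of_flat {X B : Scheme.{u}} [IsIntegral X] [IsIntegral B] (f : X ⟶ B) [Flat f] : IsDominant f := by
  refine ⟨?_⟩
  have h1 := Flat.generalizingMap f
  obtain ⟨x', -, hx'⟩ := h1 (genericPoint_specializes (f (genericPoint X)))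
  intro b
  have h2 : closure {genericPoint B} ⊆ closure (Set.range f) := closure_mono (by
    rintro _ rfl
    exact ⟨x', hx'⟩)
  refine h2 ?_
  rw [(genericPoint_spec B).def]
  trivial

/-- `χ(O_C) = 1` means `h¹(O_C) = 0`. -/
theorem subsingleton_of_euler (k : Type u) [Field k] [IsAlgClosed k] {X : Scheme.{u}} [X.Over (Spec (CommRingCat.of k))]
    [IsProper (X ↘ Spec (CommRingCat.of k))] {C : X.IdealSheafData} (hC : IsCurve C)
    (hχ : Curv2.euler k X (ClSub.quotMod C) = 1) :
    Subsingleton (Coh.HH C.subscheme (Coh.structureModule C.subscheme) 1) := by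
  have : IsNoetherian X := CurvesB.CurveRR.isNoetherian_of_proper k X
  have h3 := K464.RatConf.euler_curve k hC
  rw [hχ] at h3
  have h4 : (Module.finrank k (Coh.HH X (ClSub.quotMod C) 1) : ℤ) = 0 := by linarith
  have hf := finite_HH k (X := X) (isCoh_quotMod X C) 1
  have h5 : Subsingleton (Coh.HH X (ClSub.quotMod C) 1) :=
    Module.finrank_zero_iff.1 (by exact_mod_cast h4)
  exact (hhSub0 k C 1).symm.toEquiv.subsingleton

/-- A vertical curve in an integral fibre is the fibre. -/
theorem eq_fibre (k : Type u) [Field k] [IsAlgClosed k] {X B : Scheme.{u}} [X.Over (Spec (CommRingCat.of k))]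
    [B.Over (Spec (CommRingCat.of k))] [IsProper (X ↘ Spec (CommRingCat.of k))] [IsProper (B ↘ Spec (CommRingCat.of k))]
    [IsIntegral X] [IsIntegral B] (f : X ⟶ B) (hf : f ≫ (B ↘ Spec (CommRingCat.of k)) = X ↘ Spec (CommRingCat.of k))
    [Smooth (X ↘ Spec (CommRingCat.of k))] (hX : topologicalKrullDim X = 2) (hB : topologicalKrullDim B = 1)
    (hreg : ∀ b : B, IsRegularLocalRing (B.presheaf.stalk b)) [IsDominant f] {D : X.IdealSheafData} (hD : IsCurve D)
    {b : B} (hb : IsClosed ({b} : Set B)) (hv : ∀ x : X, x ∈ D.support → f x = b) [IsIntegral (f.fiber b)] :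
    D = (f.fiberι b).ker := by
  obtain ⟨r, C, n, hC, hinj, hn, hE, j, hF, rfl, hle, -⟩ := Vert.exists_cycle k f hf hX hB hreg hD hb hv
  have hcl : IsClosedImmersion (B.fromSpecResidueField b) := isClosed_singleton_iff_isClosedImmersion.mp hb
  have hcl2 : IsClosedImmersion (f.fiberι b) := MorphismProperty.pullback_fst _ _ hcl
  have hk := VertCan.ker_fiberι f hb
  have h1 : f.fiberι b (genericPoint (f.fiber b)) ∈ (K464.DivLat.cyc C n).support := by
    rw [← hF, ← hk]
    exact (Dix.VertGeom.le_ker_iff (f.fiberι b) (f.fiberι b).ker).1 le_rfl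
  obtain ⟨i, hi⟩ := Set.mem_iUnion.1 (K464.DivLat.support_cyc_subset (C := C) n h1)
  have h2 : C i ≤ (f.fiberι b).ker := (Dix.VertGeom.le_ker_iff (f.fiberι b) (C i)).2 hi
  have h3 : C i = (f.fiberι b).ker := le_antisymm h2 (hk ▸ hle i)
  have h4 : gp hD ∈ (C i).support := by
    rw [h3, hk, Vert.mem_support_fibre hb]
    exact hv _ (gp_mem hD)
  exact (eq_of_gp_mem hD (hC i) h4).trans h3

theorem false_of_exc (k : Type u) [Field k] [IsAlgClosed k] [CharZero k]
    (B : Scheme.{u}) [B.Over (Spec (CommRingCat.of k))] [IsProper (B ↘ (Spec (CommRingCat.of k)))]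
    [Smooth (B ↘ (Spec (CommRingCat.of k)))] [IsIntegral B] (hdimB : topologicalKrullDim B = 1)
    (M : Scheme.{u}) [M.Over (Spec (CommRingCat.of k))] [IsProper (M ↘ (Spec (CommRingCat.of k)))]
    [Smooth (M ↘ (Spec (CommRingCat.of k)))] [IsIntegral M] (hdim : topologicalKrullDim M = 2)
    (p : M ⟶ B) [p.IsOver (Spec (CommRingCat.of k))] [IsProper p] [Flat p] (U : B.Opens)
    (hU : ∀ c ∈ U, IsClosed ({c} : Set B) → Smooth (p.fiberToSpecResidueField c) ∧
      ConnectedSpace ↥(p.fiber c) ∧ Curv2.euler k M (ClSub.quotMod (p.fiberι c).ker) ≠ 1)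
    (hmin : ∀ (E : Scheme.{u}) (ι : E ⟶ M) [IsClosedImmersion ι], Models.IsExcCurve ι → ∀ b : B, b ∉ U →
      ¬ ∀ e : E, p (ι e) = b)
    (E : M.IdealSheafData) (hE : IsIntegral E.subscheme) (hdE : topologicalKrullDim (E.support : Set M) = 1)
    (hv : ∃ c : B, ∀ x : M, x ∈ E.support → p.base x = c) (hχ : Curv2.euler k M (ClSub.quotMod E) = 1) :
    FGA.intNum k M 2 ![ClSub.idealMod E, ClSub.idealMod E] (Coh.structureModule M) ≠ -1 := by
  intro h
  have hC : IsCurve E := ⟨hE, hdE⟩
  have hEe := isEff_of_smooth k hdim hC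
  rw [intNum_eq_dot k M hdim.le (Dix.IdealModCartier.isInvertible_idealMod hEe)
    (Dix.IdealModCartier.isInvertible_idealMod hEe)] at h
  obtain ⟨c, hc⟩ := hv
  have hc' : ∀ x : M, x ∈ E.support → p x = c := hc
  have hcc : IsClosed ({c} : Set B) := by
    have h1 : p '' (E.support : Set M) = {c} := by
      apply Set.eq_singleton_iff_unique_mem.2
      refine ⟨⟨gp hC, gp_mem hC, hc' _ (gp_mem hC)⟩, ?_⟩
      rintro _ ⟨x, hx, rfl⟩
      exact hc' x hx
    rw [← h1]
    exact p.isClosedMap _ E.support.isClosed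
  by_cases hcU : c ∈ U
  · obtain ⟨hs, hconn, hne⟩ := hU c hcU hcc
    have : IsDominant p := isDominant_of_flat p
    have hint : IsIntegral (p.fiber c) :=
      @K247.SmoothGI.isIntegral_of_smooth (B.residueField c) _ _ (p.fiberToSpecResidueField c) hs hconn
    have h2 := eq_fibre k p (comp_over p (Spec (CommRingCat.of k))) hdim hdimB
      (fun b => S1535.result k B b) hC hcc hc'
    rw [← h2] at hne
    exact hne hχ
  · refine hmin E.subscheme E.subschemeι ?_ c hcU fun e => hc' _ (Divis.CartierStalk.subschemeι_mem_support E e)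
    exact K455.Srf.isExcCurve k ⟨inferInstance, inferInstance, inferInstance, hdim⟩ hC hEe h
      (subsingleton_of_euler k hC hχ)

end K993.HMin
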