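import Groth.Agent.Lefpen.H108.MilnorPt
import Groth.Agent.Models.H62.ContrSmooth

/-!
# The Milnor number of a nodal family at a singular point of a fibre (K993)

* `NodeAlg.span_eq_of_quad`: the derivatives of a local equation of a node generate the maximal ideal.
* `NodeJac.milnor_eq_one`: for a nodal family `f` from a smooth surface to a smooth curve, the Milnor number of `f`
  at a point where `f` is not smooth is one.
-/

set_option autoImplicit false
universe u

namespace K993.NodeAlg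

open IsLocalRing

variable {k R : Type*} [Field k] [CommRing R] [IsLocalRing R] [Algebra k R]

theorem der_mem (D : Derivation k R R) {a : R} (ha : a ∈ maximalIdeal R ^ 2) : D a ∈ maximalIdeal R := by
  rw [pow_two] at ha
  refine Submodule.mul_induction_on ha ?_ ?_
  · intro x hx y hy
    rw [Derivation.leibniz, smul_eq_mul, smul_eq_mul]
    exact add_mem (Ideal.mul_mem_right _ _ hx) (Ideal.mul_mem_right _ _ hy)
  · intro x y hx hy
    rw [map_add]
    exact add_mem hx hy

omit [IsLocalRing R] in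
theorem der_quad (D : Derivation k R R) (a b α β γ : R) :
    D (α * a ^ 2 + β * a * b + γ * b ^ 2) = (2 * α * a + β * b) * D a + (β * a + 2 * γ * b) * D b +
      (a ^ 2 * D α + a * b * D β + b ^ 2 * D γ) := by
  simp only [map_add, Derivation.leibniz, smul_eq_mul, pow_two]
  ring

theorem span_eq_of_quad [IsNoetherianRing R] {a b : R} (ha : a ∈ maximalIdeal R) (hb : b ∈ maximalIdeal R)
    (hab : maximalIdeal R = Ideal.span {a, b})
    (hD : ∃ D₁ D₂ : Derivation k R R, D₁ a - 1 ∈ maximalIdeal R ∧ D₁ b ∈ maximalIdeal R ∧ D₂ a ∈ maximalIdeal R ∧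
      D₂ b - 1 ∈ maximalIdeal R) {h : R} (h2 : h ∈ maximalIdeal R ^ 2) {α β γ s : R}
    (hu : IsUnit (4 * α * γ - β ^ 2)) (hq : α * a ^ 2 + β * a * b + γ * b ^ 2 = s * h) :
    Ideal.span {x : R | ∃ D : Derivation k R R, x = D h} = maximalIdeal R := by
  obtain ⟨D₁, D₂, h11, h12, h21, h22⟩ := hD
  set J := Ideal.span {x : R | ∃ D : Derivation k R R, x = D h} with hJ
  have hJm : J ≤ maximalIdeal R := by
    rw [hJ, Ideal.span_le]
    rintro _ ⟨D, rfl⟩
    exact der_mem D h2
  have hDh : ∀ D : Derivation k R R, D (s * h) ∈ J ⊔ maximalIdeal R ^ 2 := fun D => by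
    rw [Derivation.leibniz, smul_eq_mul, smul_eq_mul]
    exact add_mem (Ideal.mem_sup_left (Ideal.mul_mem_left _ _ (Ideal.subset_span ⟨D, rfl⟩)))
      (Ideal.mem_sup_right (Ideal.mul_mem_right _ _ h2))
  have hm2 : ∀ {x y : R}, x ∈ maximalIdeal R → y ∈ maximalIdeal R → x * y ∈ maximalIdeal R ^ 2 := fun hx hy => by
    rw [pow_two]; exact Ideal.mul_mem_mul hx hy
  have hl1 : 2 * α * a + β * b ∈ maximalIdeal R := add_mem (Ideal.mul_mem_left _ _ ha) (Ideal.mul_mem_left _ _ hb)
  have hl2 : β * a + 2 * γ * b ∈ maximalIdeal R := add_mem (Ideal.mul_mem_left _ _ ha) (Ideal.mul_mem_left _ _ hb)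
  have hrest : ∀ D : Derivation k R R, a ^ 2 * D α + a * b * D β + b ^ 2 * D γ ∈ maximalIdeal R ^ 2 := fun D => by
    refine add_mem (add_mem ?_ ?_) ?_
    · exact Ideal.mul_mem_right _ _ (Ideal.pow_mem_pow ha 2)
    · exact Ideal.mul_mem_right _ _ (hm2 ha hb)
    · exact Ideal.mul_mem_right _ _ (Ideal.pow_mem_pow hb 2)
  have e1 : 2 * α * a + β * b ∈ J ⊔ maximalIdeal R ^ 2 := by
    have h3 := hDh D₁
    rw [← hq, der_quad] at h3
    have h4 : 2 * α * a + β * b = ((2 * α * a + β * b) * D₁ a + (β * a + 2 * γ * b) * D₁ b +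
      (a ^ 2 * D₁ α + a * b * D₁ β + b ^ 2 * D₁ γ)) - ((2 * α * a + β * b) * (D₁ a - 1) +
        (β * a + 2 * γ * b) * D₁ b + (a ^ 2 * D₁ α + a * b * D₁ β + b ^ 2 * D₁ γ)) := by ring
    rw [h4]
    exact sub_mem h3 (Ideal.mem_sup_right (add_mem (add_mem (hm2 hl1 h11) (hm2 hl2 h12)) (hrest D₁)))
  have e2 : β * a + 2 * γ * b ∈ J ⊔ maximalIdeal R ^ 2 := by
    have h3 := hDh D₂
    rw [← hq, der_quad] at h3
    have h4 : β * a + 2 * γ * b = ((2 * α * a + β * b) * D₂ a + (β * a + 2 * γ * b) * D₂ b +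
      (a ^ 2 * D₂ α + a * b * D₂ β + b ^ 2 * D₂ γ)) - ((2 * α * a + β * b) * D₂ a +
        (β * a + 2 * γ * b) * (D₂ b - 1) + (a ^ 2 * D₂ α + a * b * D₂ β + b ^ 2 * D₂ γ)) := by ring
    rw [h4]
    exact sub_mem h3 (Ideal.mem_sup_right (add_mem (add_mem (hm2 hl1 h21) (hm2 hl2 h22)) (hrest D₂)))
  obtain ⟨u, hu⟩ := hu
  have ea : a ∈ J ⊔ maximalIdeal R ^ 2 := by
    have h3 : (u : R) * a = 2 * γ * (2 * α * a + β * b) - β * (β * a + 2 * γ * b) := by rw [hu]; ring
    have h4 : (u : R) * a ∈ J ⊔ maximalIdeal R ^ 2 := by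
      rw [h3]; exact sub_mem (Ideal.mul_mem_left _ _ e1) (Ideal.mul_mem_left _ _ e2)
    have h5 := Ideal.mul_mem_left (J ⊔ maximalIdeal R ^ 2) (↑u⁻¹ : R) h4
    rwa [← mul_assoc, Units.inv_mul, one_mul] at h5
  have eb : b ∈ J ⊔ maximalIdeal R ^ 2 := by
    have h3 : (u : R) * b = 2 * α * (β * a + 2 * γ * b) - β * (2 * α * a + β * b) := by rw [hu]; ring
    have h4 : (u : R) * b ∈ J ⊔ maximalIdeal R ^ 2 := by
      rw [h3]; exact sub_mem (Ideal.mul_mem_left _ _ e2) (Ideal.mul_mem_left _ _ e1)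
    have h5 := Ideal.mul_mem_left (J ⊔ maximalIdeal R ^ 2) (↑u⁻¹ : R) h4
    rwa [← mul_assoc, Units.inv_mul, one_mul] at h5
  refine le_antisymm hJm ?_
  refine Submodule.le_of_le_smul_of_le_jacobson_bot (I := maximalIdeal R) (IsNoetherian.noetherian _)
    (IsLocalRing.maximalIdeal_le_jacobson _) ?_
  rw [smul_eq_mul, ← pow_two]
  conv_lhs => rw [hab]
  rw [Ideal.span_le]
  rintro x (rfl | hx)
  · exact ea
  · rw [Set.mem_singleton_iff] at hx; subst hx; exact eb

/-- lifting node-like equations along a quotient by an element of `m²`. -/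
theorem lift_gens [IsNoetherianRing R] {R' : Type*} [CommRing R'] [IsLocalRing R'] (π : R →+* R') (hπ : Function.Surjective π) [IsLocalHom π]
    {h : R} (hker : RingHom.ker π = Ideal.span {h}) (h2 : h ∈ maximalIdeal R ^ 2)
    {a' b' α' β' γ' : R'} (hm : maximalIdeal R' = Ideal.span {a', b'}) (hu : IsUnit (4 * α' * γ' - β' ^ 2))
    (hq : α' * a' ^ 2 + β' * a' * b' + γ' * b' ^ 2 = 0) :
    ∃ a b α β γ s : R, a ∈ maximalIdeal R ∧ b ∈ maximalIdeal R ∧ maximalIdeal R = Ideal.span {a, b} ∧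
      IsUnit (4 * α * γ - β ^ 2) ∧ α * a ^ 2 + β * a * b + γ * b ^ 2 = s * h := by
  obtain ⟨a, rfl⟩ := hπ a'
  obtain ⟨b, rfl⟩ := hπ b'
  obtain ⟨α, rfl⟩ := hπ α'
  obtain ⟨β, rfl⟩ := hπ β'
  obtain ⟨γ, rfl⟩ := hπ γ'
  have hcomap : (maximalIdeal R').comap π = maximalIdeal R := IsLocalRing.maximalIdeal_comap π
  have ha : a ∈ maximalIdeal R := by
    rw [← hcomap, Ideal.mem_comap, hm]; exact Ideal.subset_span (Or.inl rfl)
  have hb : b ∈ maximalIdeal R := by
    rw [← hcomap, Ideal.mem_comap, hm]; exact Ideal.subset_span (Or.inr rfl)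
  have h3 : α * a ^ 2 + β * a * b + γ * b ^ 2 ∈ Ideal.span {h} := by
    rw [← hker, RingHom.mem_ker]
    simpa using hq
  obtain ⟨s, hs⟩ := Ideal.mem_span_singleton'.1 h3
  refine ⟨a, b, α, β, γ, s, ha, hb, ?_, ?_, hs.symm⟩
  · apply le_antisymm
    · refine Submodule.le_of_le_smul_of_le_jacobson_bot (I := maximalIdeal R) (IsNoetherian.noetherian _)
        (IsLocalRing.maximalIdeal_le_jacobson _) ?_
      intro x hx
      have h4 : π x ∈ Ideal.map π (Ideal.span {a, b}) := by
        rw [Ideal.map_span, Set.image_pair, ← hm]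
        rw [← hcomap] at hx
        exact hx
      rw [Ideal.mem_map_iff_of_surjective π hπ] at h4
      obtain ⟨y, hy, hyx⟩ := h4
      have h5 : x - y ∈ Ideal.span {h} := by
        rw [← hker, RingHom.mem_ker, map_sub, hyx, sub_self]
      have h6 : x - y ∈ maximalIdeal R • maximalIdeal R := by
        rw [smul_eq_mul, ← pow_two]
        exact (Ideal.span_singleton_le_iff_mem _).2 h2 h5
      have h7 : x = y + (x - y) := by ring
      rw [h7]
      exact Submodule.add_mem_sup hy h6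
    · rw [Ideal.span_le]
      rintro x (rfl | hx)
      · exact ha
      · rw [Set.mem_singleton_iff] at hx; subst hx; exact hb
  · have h8 : π (4 * α * γ - β ^ 2) = 4 * π α * π γ - π β ^ 2 := by
      rw [map_sub, map_mul, map_mul, map_pow, map_ofNat]
    rw [← h8] at hu
    exact (isUnit_map_iff π _).1 hu

/-- The equation of a node-like quotient of a ring with two generators of the maximal ideal lies in the square. -/
theorem mem_sq {R' : Type*} [CommRing R'] [IsLocalRing R'] (π : R →+* R') (hπ : Function.Surjective π)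
    {x y h : R} (hm : maximalIdeal R = Ideal.span {x, y}) (hh : h ∈ maximalIdeal R) (h0 : π h = 0)
    (hnp : ¬ (maximalIdeal R').IsPrincipal) : h ∈ maximalIdeal R ^ 2 := by
  have hx : x ∈ maximalIdeal R := by rw [hm]; exact Ideal.subset_span (Or.inl rfl)
  have hy : y ∈ maximalIdeal R := by rw [hm]; exact Ideal.subset_span (Or.inr rfl)
  have hm' : maximalIdeal R' = Ideal.span {π x, π y} := by
    have hloc : IsLocalHom π := hπ.isLocalHom π
    have h1 : (maximalIdeal R').comap π = maximalIdeal R := IsLocalRing.maximalIdeal_comap π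
    rw [← Set.image_pair, ← Ideal.map_span, ← hm, ← h1, Ideal.map_comap_of_surjective π hπ]
  have h2 := hh
  rw [hm, Ideal.mem_span_pair] at h2
  obtain ⟨p, q, rfl⟩ := h2
  have key : ∀ (p q x y : R), IsUnit p → π (p * x + q * y) = 0 → maximalIdeal R' = Ideal.span {π x, π y} →
      (maximalIdeal R').IsPrincipal := by
    intro p q x y hp h3 h4
    refine ⟨π y, ?_⟩
    obtain ⟨u, rfl⟩ := hp
    have h5 : π x = -(π (↑u⁻¹ * q)) * π y := by
      have h6 : π (↑u⁻¹ * (↑u * x + q * y)) = 0 := by rw [map_mul, h3, mul_zero]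
      have h7 : (↑u⁻¹ * (↑u * x + q * y) : R) = x + ↑u⁻¹ * q * y := by
        rw [mul_add, ← mul_assoc, Units.inv_mul, one_mul, mul_assoc]
      rw [h7, map_add, map_mul _ (↑u⁻¹ * q) y] at h6
      linear_combination h6
    rw [h4]
    apply le_antisymm
    · rw [Ideal.span_le]
      rintro z (rfl | hz)
      · rw [h5]; exact Ideal.mul_mem_left _ _ (Ideal.mem_span_singleton_self _)
      · rw [Set.mem_singleton_iff] at hz; subst hz; exact Ideal.mem_span_singleton_self _
    · exact Ideal.span_mono (by intro z hz; exact Or.inr hz)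
  by_cases hp : IsUnit p
  · exact absurd (key p q x y hp h0 hm') hnp
  · by_cases hq : IsUnit q
    · refine absurd (key q p y x hq (by rw [add_comm]; exact h0) ?_) hnp
      rw [hm', Set.pair_comm]
    · rw [pow_two]
      exact add_mem (Ideal.mul_mem_mul hp hx) (Ideal.mul_mem_mul hq hy)

end K993.NodeAlg

open CategoryTheory AlgebraicGeometry Limits TopologicalSpace Opposite

namespace K993.NodeJac

open IsLocalRing Groth.Agent Groth.Agent.CurvesB Groth.Agent.CycB.FiberStalk Groth.Agent.Lefpen.H705.ClosedPoint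
  Groth.Agent.Lefpen.H707.D2Converse LefPen Groth.Agent.Lefpen.H707.ChartData

/-- The local ring of the fibre at a point where a nodal family is not smooth is node-like. -/
theorem nodeLike_quotient {X S : Scheme.{u}} (f : X ⟶ S) (hf : Curv2.IsNodalFamily f)
    [LocallyOfFinitePresentation f] (x : X) (hx : x ∉ f.smoothLocus) :
    ∃ _ : IsLocalRing (X.presheaf.stalk x ⧸ fibIdeal f x), Node.NodeLike (X.presheaf.stalk x ⧸ fibIdeal f x) := by
  have hN : NodalPoint.IsN f (f x) (f.asFiber x) := by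
    rcases NodalPoint.pt_of_isNodalFamily f hf x with h1 | h1
    · exact absurd (NodalPoint.mem_smoothLocus_of_sm f x h1) hx
    · exact h1
  have hlfp' : LocallyOfFiniteType (f.fiberToSpecResidueField (f x)) :=
    MorphismProperty.pullback_snd _ _ inferInstance
  have h2 : Node.NodeLike ((f.fiber (f x)).presheaf.stalk (f.asFiber x)) :=
    ((@Node.isNode_iff_resFS (S.residueField (f x)) _ (f.fiber (f x)) ⟨f.fiberToSpecResidueField (f x)⟩ hlfp'
      (f.asFiber x)).1 hN).2
  let e := stalkEquiv f (f x) (f.asFiber x)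
  have hloc : ∀ x' : X, IsLocalRing (X.presheaf.stalk x' ⧸ fibIdeal f x') := fun x' =>
    IsLocalRing.of_surjective' (Ideal.Quotient.mk _) Ideal.Quotient.mk_surjective
  have key : ∀ (x' : X) (_ : x' = x), Node.NodeLike (X.presheaf.stalk x' ⧸ fibIdeal f x') →
      Node.NodeLike (X.presheaf.stalk x ⧸ fibIdeal f x) := by
    rintro _ rfl h; exact h
  exact ⟨hloc x, key _ (f.fiberι_asFiber x) (Node.NodeLike.of_ringEquiv e.symm h2)⟩

variable {k : Type u} [Field k] [IsAlgClosed k] {X S : Scheme.{u}} (p : X ⟶ Spec (CommRingCat.of k)) (f : X ⟶ S)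

/-- **The Milnor number at a node of a fibre.** -/
theorem milnor_eq_one [SmoothOfRelativeDimension 2 p] (hf : Curv2.IsNodalFamily f) [LocallyOfFinitePresentation f]
    (x : X) (hx : x ∉ f.smoothLocus) (hcl : IsClosed ({x} : Set X)) (τ : S.presheaf.stalk (f x))
    (hτ : maximalIdeal (S.presheaf.stalk (f x)) = Ideal.span {τ}) : VanCyc.milnor p f x = 1 := by
  have hsm : Smooth p := SmoothOfRelativeDimension.smooth 2 p
  have hlft : LocallyOfFiniteType p := inferInstance
  have hreg := isRegularLocalRing_stalk p x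
  obtain ⟨hloc, hnode⟩ := nodeLike_quotient f hf x hx
  obtain ⟨a', b', α', β', γ', hm', hu', hq'⟩ := hnode.exists_gens
  obtain ⟨t₀, ht₀⟩ : ∃ t : Fin 2 → X.presheaf.stalk x, Ideal.span (Set.range t) = maximalIdeal _ := by
    obtain ⟨σ, hσ⟩ := exists_subfamily (Subtype.val : maximalIdeal (X.presheaf.stalk x) → _)
      (by rw [Subtype.range_coe]; exact Ideal.span_eq _) 2 (finrank_cotangentSpace_stalk p 2 _ hcl)
    exact ⟨_, hσ⟩
  have hfib : fibIdeal f x = Ideal.span {(f.stalkMap x).hom τ} := Models.H62.ContrPoint.fibIdeal_eq f x τ hτ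
  let π := Ideal.Quotient.mk (fibIdeal f x)
  have hπ : Function.Surjective π := Ideal.Quotient.mk_surjective
  have hπl : IsLocalHom π := hπ.isLocalHom π
  have hker : RingHom.ker π = Ideal.span {(f.stalkMap x).hom τ} := by rw [Ideal.mk_ker, hfib]
  have hh : (f.stalkMap x).hom τ ∈ maximalIdeal (X.presheaf.stalk x) := by
    have h1 := fibIdeal_le f x
    rw [hfib] at h1
    exact h1 (Ideal.mem_span_singleton_self _)
  have h0 : π ((f.stalkMap x).hom τ) = 0 := by
    rw [← RingHom.mem_ker, hker]; exact Ideal.mem_span_singleton_self _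
  have hr : Set.range t₀ = {t₀ 0, t₀ 1} := by
    ext z; simp [Fin.exists_fin_two, eq_comm]
  have h2 : (f.stalkMap x).hom τ ∈ maximalIdeal (X.presheaf.stalk x) ^ 2 := by
    refine NodeAlg.mem_sq π hπ (x := t₀ 0) (y := t₀ 1) ?_ hh h0 ?_
    · rw [← ht₀, hr]
    · have h3 := hnode.not_principal 1 le_rfl
      rwa [pow_one] at h3
  obtain ⟨a, b, α, β, γ, s, ha, hb, hm, hu, hq⟩ := NodeAlg.lift_gens π hπ hker h2 hm' hu' hq'
  refine Lefpen.H108.MilnorLoc.milnor_eq_one p f x (exists_sub_toStalk_mem p x hcl) τ hτ h2 ?_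
  letI := VanCyc.stalkAlgebra p x
  have hfs : Algebra.FormallySmooth k (X.presheaf.stalk x) := formallySmooth p 2 x hcl
  have hrab : Set.range ![a, b] = {a, b} := by
    ext z
    constructor
    · rintro ⟨i, rfl⟩
      fin_cases i
      · exact Or.inl rfl
      · exact Or.inr rfl
    · rintro (rfl | hz)
      · exact ⟨0, rfl⟩
      · rw [Set.mem_singleton_iff] at hz
        subst hz
        exact ⟨1, rfl⟩
  have ht : Ideal.span (Set.range ![a, b]) = maximalIdeal (X.presheaf.stalk x) := by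
    rw [hm, hrab]
  have hlin : ∀ c : Fin 2 → k, ∑ i, algebraMap k (X.presheaf.stalk x) (c i) * ![a, b] i ∈
      maximalIdeal (X.presheaf.stalk x) ^ 2 → c = 0 :=
    lin_of_span (toStalk k p x) (finrank_cotangentSpace_stalk p 2 x hcl) ![a, b] ht
  have hres : ∀ r : X.presheaf.stalk x, ∃ c : k, r - algebraMap k (X.presheaf.stalk x) c ∈
      maximalIdeal (X.presheaf.stalk x) := exists_sub_toStalk_mem p x hcl
  obtain ⟨D₁, hD₁⟩ := Lefpen.H108.LocalJac.exists_derivation hres ![a, b] ht hlin 0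
  obtain ⟨D₂, hD₂⟩ := Lefpen.H108.LocalJac.exists_derivation hres ![a, b] ht hlin 1
  refine NodeAlg.span_eq_of_quad ha hb hm ⟨D₁, D₂, ?_, ?_, ?_, ?_⟩ h2 hu hq
  · simpa using hD₁ 0
  · simpa using hD₁ 1
  · simpa using hD₂ 0
  · simpa using hD₂ 1

end K993.NodeJac
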