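import Groth.Agent.Surf.K993.VertCan
import Groth.Agent.Surf.K993.NodeJac
import Groth.Agent.Surf.K993.SingFin
import Groth.Agent.Vancyc.H326.FormulaA
import Groth.Agent.CurvesB.SmoothCurveSerre2

/-!
# The number of singular points of the fibres of a semistable fibration (K993)

`f : X ⟶ C` a nodal family, `X` a smooth proper surface, `C` a smooth proper curve over an algebraically closed field,
`f` smooth over a closed point `q₀`, `χ(O_F) = 1 - g`.

* `c_formula`: `χ(O_X) - χ(Ω_X) + χ(ω_X) = - 4 (g - 1) χ(O_C) + δ`, `δ` the number of points where `f` is not smooth.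
* `self_relCanonical`: `(ω_{X/C}.ω_{X/C}) = (ω_X.ω_X) + 8 (g - 1) χ(O_C)`.
-/

set_option autoImplicit false
universe u
open CategoryTheory CategoryTheory.Limits AlgebraicGeometry Opposite TopologicalSpace

namespace K993.MilnorSum

open Groth.Agent Groth.Agent.Grpsch.PicGrp Groth.Agent.Fga.PicMon
open K464.Base K464.Curves K464.DegCurve K464.Cohom K464.PtCurve K464.Comp K464.FibCurve
open Groth.Agent.Vancyc.H326.ChiLam K993.VertCan

section omega

variable (k : Type u) [Field k] [IsAlgClosed k] (C : Scheme.{u}) [C.Over (Spec (CommRingCat.of k))]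
  [IsProper (C ↘ Spec (CommRingCat.of k))] [Smooth (C ↘ Spec (CommRingCat.of k))] [IsIntegral C]
  (hC : topologicalKrullDim C = 1)

include hC in
theorem chi_omega : Curv2.euler k C (Omega.sheaf (C ↘ Spec (CommRingCat.of k))) =
    - Curv2.euler k C (Coh.structureModule C) := by
  obtain ⟨h1, h2⟩ := CurvesB.SmoothCurveSerre.serre_duality k C ⟨inferInstance, inferInstance, inferInstance, hC⟩
  have := CurvesB.GenusLib.isNoetherian_of_proper (C ↘ Spec (CommRingCat.of k))
  rw [CurvesB.SmoothCurveSerre.euler_eq k C hC.le, CurvesB.SmoothCurveSerre.euler_eq k C hC.le, h1, h2]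
  ring

include hC in
/-- The degree of `Ω_C`. -/
theorem degC_omega (h : PicF.IsInvertible (Omega.sheaf (C ↘ Spec (CommRingCat.of k)))) :
    degC k C (mk (Omega.sheaf (C ↘ Spec (CommRingCat.of k))) h) = -2 * Curv2.euler k C (Coh.structureModule C) := by
  have h1 : degC k C (mk (Omega.sheaf (C ↘ Spec (CommRingCat.of k))) h) =
      Curv2.euler k C (Omega.sheaf (C ↘ Spec (CommRingCat.of k))) - Curv2.euler k C (Coh.structureModule C) := by
    rw [degC_mk, Curv2.deg]; ring
  rw [h1, chi_omega k C hC]
  ring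

include hC in
theorem genus_eq : Curv2.euler k C (Coh.structureModule C) = 1 - (Curv2.genus k C : ℤ) := by
  rw [CurvesC.CurveCoh.euler_eq k C hC, VarietyA.CurveFin.finrank_h0_structure k C, Curv2.genus]
  simp

theorem c_curve (hC : topologicalKrullDim C = 1) (hr : SmoothOfRelativeDimension 1 (C ↘ Spec (CommRingCat.of k))) :
    c k 1 (Omega.sheaf (C ↘ Spec (CommRingCat.of k))) = 2 * Curv2.euler k C (Coh.structureModule C) := by
  have hΩ := isFinLocFree_of_rank (Vancyc.H878.OmegaRank.isFinLocFreeOfRank_omega 1 (C ↘ Spec (CommRingCat.of k)))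
  rw [c_eq k hΩ (L := fun i => if i = 0 then Coh.structureModule C else Omega.sheaf (C ↘ Spec (CommRingCat.of k)))]
  · simp only [Finset.sum_range_succ, Finset.sum_range_zero]
    simp only [if_true, one_ne_zero, if_false, pow_zero, pow_one]
    rw [chi_omega k C hC]
    ring
  · intro i hi
    interval_cases i
    · exact Sga67.TensorOps.isExtPow_zero _
    · exact Sga67.TensorOps.isExtPow_one _

end omega

section surface

variable (k : Type u) [Field k] [IsAlgClosed k] {X C : Scheme.{u}} [X.Over (Spec (CommRingCat.of k))]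
  [C.Over (Spec (CommRingCat.of k))] [IsProper (X ↘ Spec (CommRingCat.of k))] [IsProper (C ↘ Spec (CommRingCat.of k))]
  [IsIntegral X] [IsIntegral C] [Smooth (X ↘ Spec (CommRingCat.of k))] [Smooth (C ↘ Spec (CommRingCat.of k))]
  (f : X ⟶ C) [IsDominant f] (hf : f ≫ (C ↘ Spec (CommRingCat.of k)) = X ↘ Spec (CommRingCat.of k))
  (hX : topologicalKrullDim X = 2) (hC : topologicalKrullDim C = 1)
  {W : X.Modules} (hW : ExtPow.IsExtPow 2 (Omega.sheaf (X ↘ (Spec (CommRingCat.of k)))) W)
  (hWi : PicF.IsInvertible W)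

include hW in
omit [IsIntegral X] [IsAlgClosed k] in
theorem c_surface (hr : SmoothOfRelativeDimension 2 (X ↘ Spec (CommRingCat.of k))) :
    c k 2 (Omega.sheaf (X ↘ Spec (CommRingCat.of k))) = Curv2.euler k X (Coh.structureModule X) -
      Curv2.euler k X (Omega.sheaf (X ↘ Spec (CommRingCat.of k))) + Curv2.euler k X W := by
  have hΩ := isFinLocFree_of_rank (Vancyc.H878.OmegaRank.isFinLocFreeOfRank_omega 2 (X ↘ Spec (CommRingCat.of k)))
  rw [c_eq k hΩ (L := fun i => if i = 0 then Coh.structureModule X else if i = 1 then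
    Omega.sheaf (X ↘ Spec (CommRingCat.of k)) else W)]
  · simp only [Finset.sum_range_succ, Finset.sum_range_zero]
    simp only [if_true, one_ne_zero, if_false, pow_zero, pow_one, OfNat.ofNat_ne_zero, OfNat.ofNat_ne_one]
    ring
  · intro i hi
    interval_cases i
    · exact Sga67.TensorOps.isExtPow_zero _
    · exact Sga67.TensorOps.isExtPow_one _
    · exact hW

end surface

section fibre

variable (k : Type u) [Field k] [IsAlgClosed k] {X C : Scheme.{u}} [X.Over (Spec (CommRingCat.of k))]
  [C.Over (Spec (CommRingCat.of k))] [IsProper (X ↘ Spec (CommRingCat.of k))] [IsProper (C ↘ Spec (CommRingCat.of k))]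
  [IsIntegral C] (f : X ⟶ C) (hf : f ≫ (C ↘ Spec (CommRingCat.of k)) = X ↘ Spec (CommRingCat.of k))
  {W : X.Modules} (hW : ExtPow.IsExtPow 2 (Omega.sheaf (X ↘ (Spec (CommRingCat.of k)))) W)

/-- The generic fibre over the residue field. -/
noncomputable abbrev ovG : (pullback f (C.fromSpecResidueField (genericPoint C))).Over
    (Spec (CommRingCat.of (C.residueField (genericPoint C)))) :=
  ⟨pullback.snd f (C.fromSpecResidueField (genericPoint C))⟩

theorem eulerChar_eq (F : X.Modules) :
    letI := ovG f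
    Curv2.euler (C.residueField (genericPoint C)) (pullback f (C.fromSpecResidueField (genericPoint C)))
      ((Scheme.Modules.pullback (pullback.fst f (C.fromSpecResidueField (genericPoint C)))).obj F) =
    PerfAux.eulerChar f F (genericPoint C) := rfl

include hf hW in
theorem c_fibre [SmoothOfRelativeDimension (1 + 1) (X ↘ Spec (CommRingCat.of k))]
    [SmoothOfRelativeDimension 1 (C ↘ Spec (CommRingCat.of k))] {U : X.Opens} (hU : {x : X | x ∉ U}.Finite)
    (hUf : Smooth (U.ι ≫ f)) :
    letI := ovG f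
    c (C.residueField (genericPoint C)) 1 (Omega.sheaf (pullback.snd f (C.fromSpecResidueField (genericPoint C)))) =
      - fd f W := by
  letI := ovG f
  let K := C.residueField (genericPoint C)
  let η : Spec (CommRingCat.of K) ⟶ C := C.fromSpecResidueField (genericPoint C)
  have hη : η.base (IsLocalRing.closedPoint K) = genericPoint C := C.fromSpecResidueField_apply _ _
  have hI : (pullback f η) ↘ (Spec (CommRingCat.of K)) = pullback.snd f η := rfl
  have hsm : SmoothOfRelativeDimension 1 (pullback.snd f η) :=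
    Vancyc.H691.GenFib.smooth_snd hf hU hη 1 hUf
  have hpr : IsProper (pullback.snd f η) := Vancyc.H691.GenFib.proper_snd hf η
  have h0 := Vancyc.H878.A6Main.euler_pull_zero 1 hf hU hUf hη
  have h1 := Vancyc.H878.A6Main.euler_pull_succ 1 hf hU hUf hη hI 1
  have hz := Vancyc.H878.EulerExt.isZero_extPow (Vancyc.H878.OmegaRank.isFinLocFreeOfRank_omega 1 (pullback.snd f η))
    (show 1 < 1 + 1 by norm_num)
  have hz' : Curv2.euler K (pullback f η) (extPow (Omega.sheaf (pullback.snd f η)) (1 + 1)) = 0 :=
    VarietyA.LerayEuler.euler_eq_zero_of_isZero K _ hz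
  have hΩ := isFinLocFree_of_rank (Vancyc.H878.OmegaRank.isFinLocFreeOfRank_omega (1 + 1) (X ↘ Spec (CommRingCat.of k)))
  obtain ⟨e0⟩ := nonempty_iso_extPow hΩ (Iso.refl _) (Sga67.TensorOps.isExtPow_zero (Omega.sheaf (X ↘ Spec (CommRingCat.of k))))
  obtain ⟨e2⟩ := nonempty_iso_extPow hΩ (Iso.refl _) hW
  have h2 := euler_congr K _ ((Scheme.Modules.pullback (pullback.fst f η)).mapIso e0)
  have h3 := euler_congr K _ ((Scheme.Modules.pullback (pullback.fst f η)).mapIso e2)
  have h4 : c K 1 (Omega.sheaf (pullback.snd f η)) = Curv2.euler K (pullback f η) (extPow (Omega.sheaf (pullback.snd f η)) 0) -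
      Curv2.euler K (pullback f η) (extPow (Omega.sheaf (pullback.snd f η)) 1) := by
    unfold c
    rw [Finset.sum_range_succ, Finset.sum_range_one]
    ring
  have h5 : fd f W = Curv2.euler K (pullback f η) ((Scheme.Modules.pullback (pullback.fst f η)).obj W) -
      Curv2.euler K (pullback f η) ((Scheme.Modules.pullback (pullback.fst f η)).obj (Coh.structureModule X)) := rfl
  have h6 : c K 1 (Omega.sheaf (pullback.snd f η)) = - fd f W := by
    rw [h4, h5]
    linarith
  exact h6

end fibre

section main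

variable (k : Type u) [Field k] [IsAlgClosed k] {X C : Scheme.{u}} [X.Over (Spec (CommRingCat.of k))]
  [C.Over (Spec (CommRingCat.of k))] [IsProper (X ↘ Spec (CommRingCat.of k))] [IsProper (C ↘ Spec (CommRingCat.of k))]
  [IsIntegral X] [IsIntegral C] [Smooth (X ↘ Spec (CommRingCat.of k))] [Smooth (C ↘ Spec (CommRingCat.of k))]
  (f : X ⟶ C) [IsDominant f] (hf : f ≫ (C ↘ Spec (CommRingCat.of k)) = X ↘ Spec (CommRingCat.of k))
  (hX : topologicalKrullDim X = 2) (hC : topologicalKrullDim C = 1)
  {W : X.Modules} (hW : ExtPow.IsExtPow 2 (Omega.sheaf (X ↘ (Spec (CommRingCat.of k)))) W)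
  (hWi : PicF.IsInvertible W) (hfn : Curv2.IsNodalFamily f) [LocallyOfFinitePresentation f]
  {q₀ : C} (hq₀ : IsClosed ({q₀} : Set C)) (hsm : Smooth (f.fiberToSpecResidueField q₀)) {g : ℕ}
  (hg : Curv2.euler k X (ClSub.quotMod (f.fiberι q₀).ker) = 1 - (g : ℤ))

include hf hX hC hW hWi hfn hq₀ hsm hg in
/-- The coherent Milnor formula for a nodal family. -/
theorem c_formula : Curv2.euler k X (Coh.structureModule X) -
      Curv2.euler k X (Omega.sheaf (X ↘ Spec (CommRingCat.of k))) + Curv2.euler k X W =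
    - 4 * ((g : ℤ) - 1) * Curv2.euler k C (Coh.structureModule C) + Nat.card ↥((f.smoothLocus : Set X)ᶜ) := by
  have : AlgebraicGeometry.IsNoetherian X := CurvesB.CurveRR.isNoetherian_of_proper k X
  have : AlgebraicGeometry.IsNoetherian C := CurvesB.CurveRR.isNoetherian_of_proper k C
  have := isProper k f hf
  have hreg : ∀ b : C, IsRegularLocalRing (C.presheaf.stalk b) := fun b =>
    K456.FibDiv.isRegular_of_smooth (C ↘ Spec (CommRingCat.of k)) b
  have hr2 : SmoothOfRelativeDimension 2 (X ↘ Spec (CommRingCat.of k)) :=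
    K455.RelDim.smoothOfRelativeDimension k _ 2 (K456.Adj.dim_components hX)
  have hr2' : SmoothOfRelativeDimension (1 + 1) (X ↘ Spec (CommRingCat.of k)) := hr2
  have hr1 : SmoothOfRelativeDimension 1 (C ↘ Spec (CommRingCat.of k)) :=
    Picfga.CurveRelDim.smoothOfRelativeDimension_of_topologicalKrullDim_eq k C _ 1 hC
  have hfin : {x : X | x ∉ f.smoothLocus}.Finite := SingFin.finite_compl f hfn hC.le hsm
  have hUf : Smooth (f.smoothLocus.ι ≫ f) := VarietyA.SmoothLocusSch.smooth_smoothLocus_ι f
  let K := C.residueField (genericPoint C)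
  let η : Spec (CommRingCat.of K) ⟶ C := C.fromSpecResidueField (genericPoint C)
  have hη : η.base (IsLocalRing.closedPoint K) = genericPoint C := C.fromSpecResidueField_apply _ _
  letI := ovG f
  have h := Vancyc.H326.FormulaA.coh_formula' (k := k) (S := C) (X := X) (C ↘ Spec (CommRingCat.of k))
    (X ↘ Spec (CommRingCat.of k)) rfl rfl 1 f hf hfin.toFinset f.smoothLocus
    (fun x hx => by
      by_contra hx'
      exact hx (hfin.mem_toFinset.2 hx')) hUf η hη rfl
  have h1 : c K 1 (Omega.sheaf (pullback.snd f η)) = - fd f W := c_fibre k f hf hW hfin hUf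
  have h2 := fd_canonical k f hf hX hC hreg hW hWi hq₀ hg
  have h3 : c k (1 + 1) (Omega.sheaf (X ↘ Spec (CommRingCat.of k))) = Curv2.euler k X (Coh.structureModule X) -
      Curv2.euler k X (Omega.sheaf (X ↘ Spec (CommRingCat.of k))) + Curv2.euler k X W := c_surface k hW hr2
  have h4 := c_curve k C hC hr1
  have h5 : ∀ x ∈ hfin.toFinset, (VanCyc.milnor (X ↘ Spec (CommRingCat.of k)) f x : ℤ) = 1 := fun x hx => by
    have hx' : x ∉ f.smoothLocus := hfin.mem_toFinset.1 hx
    obtain ⟨τ, hτ, -⟩ := K456.FibDiv.exists_uniformizer hC hreg (f x) (SingFin.isClosed_apply f hfn hC.le hsm hx')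
    rw [NodeJac.milnor_eq_one (X ↘ Spec (CommRingCat.of k)) f hfn x hx' (SingFin.isClosed_singleton f hfn hC.le hsm hx') τ hτ]
    rfl
  have h6 : Nat.card ↥((f.smoothLocus : Set X)ᶜ) = hfin.toFinset.card :=
    Nat.card_eq_card_finite_toFinset hfin
  rw [h3, h4, h1, h2, Finset.sum_congr rfl h5, Finset.sum_const, nsmul_eq_mul, mul_one] at h
  rw [h, h6]
  ring

variable {M : X.Modules}
  (hM : ClSub.IsInverseOf M ((Scheme.Modules.pullback f).obj (Omega.sheaf (C ↘ (Spec (CommRingCat.of k))))))

include hf hX hC hW hM hq₀ hg in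
omit [LocallyOfFinitePresentation f] in
/-- The self-intersection of the relative canonical class. -/
theorem self_relCanonical (hMi : PicF.IsInvertible M) :
    dot k X (mk W hWi * mk M hMi) (mk W hWi * mk M hMi) = dot k X (mk W hWi) (mk W hWi) +
      8 * ((g : ℤ) - 1) * Curv2.euler k C (Coh.structureModule C) := by
  have hreg : ∀ b : C, IsRegularLocalRing (C.presheaf.stalk b) := fun b =>
    K456.FibDiv.isRegular_of_smooth (C ↘ Spec (CommRingCat.of k)) b
  have h1 := fd_canonical k f hf hX hC hreg hW hWi hq₀ hg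
  rw [mk_inverse_omega k f hC hM hMi, dot_mul_left k X hX.le, dot_mul_right k X hX.le, dot_mul_right k X hX.le,
    dot_pull_pull k f hf hX.le hC hreg, dot_comm k X (mk W hWi) (pull f _), dot_pull k f hf hX.le hC hreg _ hWi,
    degC_inv k C hC, degC_omega k C hC, h1]
  ring

end main

end K993.MilnorSum
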